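import Mathlib.GroupTheory.Perm.Cycle.Type
import Mathlib.GroupTheory.Perm.Cycle.PossibleTypes

/-!
Invariant subsets of permutations of prime order: possible sizes, and permutations with the
largest possible support.
-/

set_option autoImplicit false

namespace CfsgLib.PrimeOrderPerm

open Equiv Finset

variable {α : Type*} [Fintype α] [DecidableEq α] {r : ℕ}

theorem mem_cycleOf_support_iff (σ : Perm α) {x : α} (hx : σ x ≠ x) (y : α) :
    σ y ∈ (σ.cycleOf x).support ↔ y ∈ (σ.cycleOf x).support := by
  rw [Perm.mem_support_cycleOf_iff' hx, Perm.mem_support_cycleOf_iff' hx, Perm.sameCycle_apply_right]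

theorem card_cycleOf_support (hr : r.Prime) {σ : Perm α} (hσ : orderOf σ = r) {x : α} (hx : σ x ≠ x) :
    (σ.cycleOf x).support.card = r := by
  have hc := σ.isCycle_cycleOf hx
  rw [← hc.orderOf]
  have h := σ.orderOf_cycleOf_dvd_orderOf x
  rw [hσ] at h
  rcases (Nat.dvd_prime hr).1 h with h1 | h1
  · exact absurd h1 (by rw [hc.orderOf]; exact (hc.two_le_card_support).trans_lt' one_lt_two |>.ne')
  · exact h1

theorem dvd_card_support (hr : r.Prime) {σ : Perm α} (hσ : σ ^ r = 1) : r ∣ σ.support.card := by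
  haveI := Fact.mk hr
  have h := Perm.card_compl_support_modEq (p := r) (n := 1) (σ := σ) (by rwa [pow_one])
  rw [Nat.modEq_iff_dvd' (card_le_univ _), ← card_compl, compl_compl] at h
  exact h

/-- invariant sets inside the support -/
theorem exists_invariant_support (hr : r.Prime) {σ : Perm α} (hσ : orderOf σ = r) :
    ∀ i, i * r ≤ σ.support.card →
      ∃ S ⊆ σ.support, S.card = i * r ∧ ∀ y, σ y ∈ S ↔ y ∈ S := by
  intro i
  induction i with
  | zero => exact fun _ => ⟨∅, empty_subset _, by simp, by simp⟩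
  | succ i ih =>
    intro hi
    rw [Nat.succ_mul] at hi
    obtain ⟨S, hS, hcard, hinv⟩ := ih (by omega)
    obtain ⟨x, hx, hxS⟩ := exists_mem_notMem_of_card_lt_card (s := S) (t := σ.support)
      (by have := hr.pos; omega)
    rw [Perm.mem_support] at hx
    have hpow : ∀ (n : ℕ) y, (σ ^ n) y ∈ S ↔ y ∈ S := by
      intro n
      induction n with
      | zero => simp
      | succ n ihn => intro y; rw [pow_succ', Perm.mul_apply, hinv, ihn]
    have hdisj : Disjoint S (σ.cycleOf x).support := by
      rw [disjoint_left]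
      intro y hyS hy
      rw [Perm.mem_support_cycleOf_iff' hx] at hy
      obtain ⟨n, hn⟩ := hy.exists_nat_pow_eq
      exact hxS ((hpow n x).1 (hn ▸ hyS))
    refine ⟨S ∪ (σ.cycleOf x).support, union_subset hS (σ.support_cycleOf_le x), ?_, fun y => ?_⟩
    · rw [card_union_of_disjoint hdisj, hcard, card_cycleOf_support hr hσ hx, Nat.succ_mul]
    · rw [mem_union, mem_union, hinv, mem_cycleOf_support_iff σ hx]

/-- invariant sets of any admissible size -/
theorem exists_invariant (hr : r.Prime) {σ : Perm α} (hσ : orderOf σ = r) {i f : ℕ}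
    (hi : i * r ≤ σ.support.card) (hf : f ≤ σ.supportᶜ.card) :
    ∃ S : Finset α, S.card = i * r + f ∧ ∀ y, σ y ∈ S ↔ y ∈ S := by
  obtain ⟨S, hS, hcard, hinv⟩ := exists_invariant_support hr hσ i hi
  obtain ⟨F, hF, hFcard⟩ := exists_subset_card_eq hf
  have hfix : ∀ y ∈ F, σ y = y := fun y hy => Perm.notMem_support.1 (mem_compl.1 (hF hy))
  refine ⟨S ∪ F, ?_, fun y => ?_⟩
  · rw [card_union_of_disjoint (disjoint_left.2 fun y hyS hyF => (mem_compl.1 (hF hyF)) (hS hyS)),
      hcard, hFcard]
  · rw [mem_union, mem_union, hinv]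
    constructor
    · rintro (h | h)
      · exact Or.inl h
      · exact Or.inr (σ.injective (hfix _ h) ▸ h)
    · rintro (h | h)
      · exact Or.inl h
      · exact Or.inr ((hfix y h).symm ▸ h)

/-- every size with small enough residue is attained -/
theorem exists_invariant_of_mod_le (hr : r.Prime) {σ : Perm α} (hσ : orderOf σ = r) {k : ℕ}
    (hk : k ≤ Fintype.card α) (hmod : k % r ≤ Fintype.card α % r) :
    ∃ S : Finset α, S.card = k ∧ ∀ y, σ y ∈ S ↔ y ∈ S := by
  haveI := Fact.mk hr
  obtain ⟨j, hj⟩ := dvd_card_support hr (hσ ▸ pow_orderOf_eq_one σ)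
  rw [mul_comm] at hj
  have hsum : σ.supportᶜ.card + σ.support.card = Fintype.card α := by
    rw [add_comm, card_add_card_compl]
  have hmodF : Fintype.card α % r ≤ σ.supportᶜ.card := by
    have h : Fintype.card α % r = σ.supportᶜ.card % r := by
      rw [← hsum, hj, Nat.add_mul_mod_self_right]
    rw [h]; exact Nat.mod_le _ _
  have key : ∃ i f, i * r ≤ σ.support.card ∧ f ≤ σ.supportᶜ.card ∧ i * r + f = k := by
    by_cases h : j ≤ k / r
    · have h1 : j * r ≤ k / r * r := Nat.mul_le_mul_right r h
      have h2 : k / r * r ≤ k := Nat.div_mul_le_self k r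
      exact ⟨j, k - j * r, le_of_eq hj.symm, by omega, by omega⟩
    · refine ⟨k / r, k % r, ?_, hmod.trans hmodF, Nat.div_add_mod' k r⟩
      rw [hj]; exact Nat.mul_le_mul_right r (by omega)
  obtain ⟨i, f, hi, hf, he⟩ := key
  rw [← he]
  exact exists_invariant hr hσ hi hf

/-- a permutation of order `r` with the largest possible support, and the restriction it imposes -/
theorem exists_max_support (hr : r.Prime) (hrn : r ≤ Fintype.card α) :
    ∃ σ : Perm α, orderOf σ = r ∧ ∀ S : Finset α, (∀ y, σ y ∈ S ↔ y ∈ S) →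
      S.card % r ≤ Fintype.card α % r := by
  haveI := Fact.mk hr
  set n := Fintype.card α with hn
  obtain ⟨σ, hσ⟩ := (Perm.exists_with_cycleType_iff α (m := Multiset.replicate (n / r) r)).2
    ⟨by rw [Multiset.sum_replicate, smul_eq_mul]; exact Nat.div_mul_le_self n r,
      fun a ha => (Multiset.eq_of_mem_replicate ha) ▸ hr.two_le⟩
  have hpos : 0 < n / r := Nat.div_pos hrn hr.pos
  have hord : orderOf σ = r := by
    rw [← Perm.lcm_cycleType, hσ]
    obtain ⟨m, hm⟩ : ∃ m, n / r = m + 1 := ⟨n / r - 1, by omega⟩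
    rw [hm]
    clear hm
    induction m with
    | zero => simp
    | succ m ih => rw [Multiset.replicate_succ, Multiset.lcm_cons, ih]; exact Nat.lcm_self r
  have hsupp : σ.support.card = n / r * r := by
    rw [← Perm.sum_cycleType, hσ, Multiset.sum_replicate, smul_eq_mul]
  refine ⟨σ, hord, fun S hS => ?_⟩
  let τ : Perm {y // y ∈ S} := σ.subtypePerm hS
  have hτ : τ ^ r = 1 := by
    have h := pow_orderOf_eq_one σ
    rw [hord] at h
    ext y
    simp [τ, Perm.subtypePerm_pow, h]
  have hmodS := Perm.card_compl_support_modEq (p := r) (n := 1) (σ := τ) (by rwa [pow_one])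
  rw [Fintype.card_coe] at hmodS
  have hle : τ.supportᶜ.card ≤ σ.supportᶜ.card := by
    refine Finset.card_le_card_of_injOn Subtype.val (fun y hy => ?_) Subtype.val_injective.injOn
    simp only [coe_compl, Set.mem_compl_iff, mem_coe, Perm.mem_support, not_not] at hy ⊢
    exact congrArg Subtype.val hy
  have hcompl : σ.supportᶜ.card = n % r := by
    rw [card_compl, hsupp, ← hn]
    have := Nat.div_add_mod' n r
    omega
  rw [← hmodS]
  exact ((Nat.mod_le _ _).trans hle).trans hcompl.le

end CfsgLib.PrimeOrderPerm
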