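import Cfsg.Agent.Lib.PrimeOrderPerm.Invariant
import Mathlib.SetTheory.Cardinal.Finite
import Mathlib.Logic.Equiv.Fin.Basic
import Mathlib.Data.Fintype.BigOperators
import Mathlib.Tactic.Linarith

/-!
A permutation of prime order `r` with `j` cycles preserves some partition into `b` parts of size `a`
exactly when `j` lies in one of the intervals `[m * a, b * (a / r) + m * (a % r)]`, `m * r ≤ b`.
-/

set_option autoImplicit false

namespace CfsgLib.PrimeOrderPerm

open Equiv Finset

variable {α : Type*} [Fintype α] [DecidableEq α] {r : ℕ}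

theorem cycleType_eq_replicate (hr : r.Prime) {σ : Perm α} (hσ : σ ^ r = 1) {j : ℕ}
    (hj : σ.support.card = j * r) : σ.cycleType = Multiset.replicate j r := by
  have hall : ∀ n ∈ σ.cycleType, n = r := fun n hn => by
    rcases (Nat.dvd_prime hr).1 ((Perm.dvd_of_mem_cycleType hn).trans (orderOf_dvd_of_pow_eq_one hσ)) with h | h
    · exact absurd h (Perm.one_lt_of_mem_cycleType hn).ne'
    · exact h
  obtain h := Multiset.eq_replicate_card.2 hall
  have hs := σ.sum_cycleType
  rw [h, Multiset.sum_replicate, smul_eq_mul, hj] at hs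
  rw [h, Nat.eq_of_mul_eq_mul_right hr.pos hs]

theorem exists_with_cycles (hr : r.Prime) {j : ℕ} (hj : j * r ≤ Fintype.card α) :
    ∃ σ : Perm α, σ ^ r = 1 ∧ σ.support.card = j * r := by
  obtain ⟨σ, hσ⟩ := (Perm.exists_with_cycleType_iff α (m := Multiset.replicate j r)).2
    ⟨by simpa using hj, fun x hx => (Multiset.eq_of_mem_replicate hx) ▸ hr.two_le⟩
  refine ⟨σ, orderOf_dvd_iff_pow_eq_one.1 ?_, by rw [← σ.sum_cycleType, hσ, Multiset.sum_replicate, smul_eq_mul]⟩
  rw [← Perm.lcm_cycleType, hσ]
  exact Multiset.lcm_dvd.2 fun x hx => (Multiset.eq_of_mem_replicate hx) ▸ dvd_rfl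

/-- the relation `σ` preserves some partition of `α` into `b` parts of size `a` -/
def FixesPartition (a b : ℕ) (σ : Perm α) : Prop :=
  ∃ f : α → Fin b, (∀ j : Fin b, Nat.card {x : α // f x = j} = a) ∧
    ∃ π : Perm (Fin b), ∀ x : α, f (σ x) = π (f x)

theorem interval_of_fixesPartition (hr : r.Prime) {a b : ℕ} (ha : 0 < a) {σ : Perm α} (hσ : σ ^ r = 1)
    {j : ℕ} (hj : σ.support.card = j * r) (h : FixesPartition a b σ) :
    ∃ m, m * r ≤ b ∧ m * a ≤ j ∧ j ≤ b * (a / r) + m * (a % r) := by
  haveI := Fact.mk hr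
  obtain ⟨f, hf, π, hπ⟩ := h
  have hcardf : ∀ i, (univ.filter fun x => f x = i).card = a := fun i => by
    rw [← Fintype.card_subtype, ← Nat.card_eq_fintype_card]; exact hf i
  have hiter : ∀ (n : ℕ) x, f ((σ ^ n) x) = (π ^ n) (f x) := by
    intro n
    induction n with
    | zero => simp
    | succ n ih => intro x; rw [pow_succ', pow_succ', Perm.mul_apply, Perm.mul_apply, hπ, ih]
  have hπr : π ^ r = 1 := by
    refine Perm.ext fun i => ?_
    obtain ⟨x, hx⟩ : (univ.filter fun x => f x = i).Nonempty := card_pos.1 (by rw [hcardf]; exact ha)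
    rw [mem_filter] at hx
    rw [← hx.2, ← hiter, hσ]
    simp
  obtain ⟨m, hm⟩ := dvd_card_support hr hπr
  rw [mul_comm] at hm
  have hmb : m * r ≤ b := by
    rw [← hm]; exact (card_le_univ _).trans (by simp)
  refine ⟨m, hmb, ?_⟩
  have hfib := card_eq_sum_card_fiberwise (f := f) (s := σ.support) (t := univ) (fun _ _ => mem_coe.2 (mem_univ _))
  have hmoved : ∀ i ∈ π.support, (σ.support.filter fun x => f x = i).card = a := by
    intro i hi
    rw [← hcardf i]
    congr 1
    ext x
    simp only [mem_filter, Perm.mem_support, mem_univ, true_and, and_iff_right_iff_imp]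
    intro hx hfix
    apply Perm.mem_support.1 hi
    rw [← hx, ← hπ, hfix]
  have hfixed : ∀ i ∈ π.supportᶜ, (σ.support.filter fun x => f x = i).card ≤ a / r * r := by
    intro i hi
    rw [mem_compl, Perm.notMem_support] at hi
    set S := univ.filter fun x => f x = i
    have hS : ∀ y, σ y ∈ S ↔ y ∈ S := by
      intro y
      simp only [S, mem_filter, mem_univ, true_and, hπ]
      exact ⟨fun h => π.injective (by rw [h, hi]), fun h => by rw [h, hi]⟩
    let τ : Perm {y // y ∈ S} := σ.subtypePerm hS
    have hτ : τ ^ r = 1 := by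
      ext y
      simp [τ, Perm.subtypePerm_pow, hσ]
    obtain ⟨c, hc⟩ := dvd_card_support hr hτ
    have he : (σ.support.filter fun x => f x = i).card = τ.support.card := by
      refine (card_bij (fun y _ => y.val) (fun y hy => ?_) (fun _ _ _ _ h => Subtype.ext h)
        fun x hx => ?_).symm
      · have h2 := y.2
        simp only [S, mem_filter, mem_univ, true_and] at h2
        simp only [mem_filter, Perm.mem_support] at hy ⊢
        exact ⟨fun h => hy (Subtype.ext h), h2⟩
      · simp only [mem_filter, Perm.mem_support] at hx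
        exact ⟨⟨x, by simp [S, hx.2]⟩, Perm.mem_support.2 fun h => hx.1 (congrArg Subtype.val h), rfl⟩
    have hle : τ.support.card ≤ a := by
      refine (card_le_univ _).trans ?_
      rw [Fintype.card_coe]; exact (hcardf i).le
    rw [he, hc, mul_comm r c]
    refine Nat.mul_le_mul_right r ((Nat.le_div_iff_mul_le hr.pos).2 ?_)
    rw [mul_comm]; rw [hc] at hle; exact hle
  rw [← sum_add_sum_compl π.support, sum_congr rfl hmoved, sum_const, smul_eq_mul, hm, hj] at hfib
  have hsum := sum_le_sum hfixed
  rw [sum_const, smul_eq_mul, card_compl, hm, Fintype.card_fin] at hsum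
  generalize ∑ i ∈ π.supportᶜ, (σ.support.filter fun x => f x = i).card = S at hfib hsum
  clear hfixed hmoved hπ hπr hm hiter hcardf hf f π
  constructor
  · have : m * a * r ≤ j * r := by rw [hfib]; linarith [Nat.zero_le S]
    exact Nat.le_of_mul_le_mul_right this hr.pos
  · have hdiv := Nat.div_add_mod' a r
    obtain ⟨d, hd⟩ := Nat.exists_eq_add_of_le hmb
    rw [hd, Nat.add_sub_cancel_left] at hsum
    have : j * r ≤ (b * (a / r) + m * (a % r)) * r := by
      rw [hfib, hd]
      nlinarith [hsum, hdiv]
    exact Nat.le_of_mul_le_mul_right this hr.pos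

theorem exists_sum_eq {ι : Type*} [DecidableEq ι] (q : ℕ) : ∀ (s : Finset ι) (t : ℕ), t ≤ s.card * q →
    ∃ c : ι → ℕ, (∀ i, c i ≤ q) ∧ ∑ i ∈ s, c i = t := by
  intro s
  induction s using Finset.induction with
  | empty => intro t ht; exact ⟨fun _ => 0, fun _ => Nat.zero_le _, by simp at ht; simp [ht]⟩
  | insert x s hx ih =>
    intro t ht
    rw [card_insert_of_notMem hx, Nat.succ_mul] at ht
    obtain ⟨c, hc, hs⟩ := ih (t - min t q) (by omega)
    refine ⟨Function.update c x (min t q), fun i => ?_, ?_⟩
    · by_cases h : i = x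
      · subst h; simp
      · rw [Function.update_of_ne h]; exact hc i
    · rw [sum_insert hx, Function.update_self,
        sum_congr rfl fun i hi => Function.update_of_ne (fun h : i = x => hx (h ▸ hi)) _ _, hs]
      omega

theorem fixesPartition_of_interval (hr : r.Prime) {a b : ℕ} (hcard : Fintype.card α = a * b)
    {σ : Perm α} (hσ : σ ^ r = 1) {j : ℕ} (hj : σ.support.card = j * r) {m : ℕ} (hmb : m * r ≤ b)
    (hlo : m * a ≤ j) (hhi : j ≤ b * (a / r) + m * (a % r)) : FixesPartition a b σ := by
  classical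
  obtain ⟨π, hπ, hπc⟩ := exists_with_cycles (α := Fin b) hr (j := m) (by simpa using hmb)
  have ht : j - m * a ≤ π.supportᶜ.card * (a / r) := by
    rw [card_compl, hπc, Fintype.card_fin]
    obtain ⟨d, hd⟩ := Nat.exists_eq_add_of_le hmb
    rw [hd, Nat.add_sub_cancel_left]
    have hdiv := Nat.div_add_mod' a r
    have : j ≤ d * (a / r) + m * a := by
      rw [hd] at hhi; nlinarith [hhi, hdiv]
    omega
  obtain ⟨c, hc, hsum⟩ := exists_sum_eq (a / r) π.supportᶜ _ ht
  have hρ : ∀ i, ∃ ρ : Perm (Fin a), ρ ^ r = 1 ∧ ρ.support.card = (if π i = i then c i else 0) * r := by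
    intro i
    refine exists_with_cycles hr ?_
    rw [Fintype.card_fin]
    split_ifs
    · exact (Nat.mul_le_mul_right r (hc i)).trans (Nat.div_mul_le_self a r)
    · simp
  choose ρ hρr hρc using hρ
  have hρmoved : ∀ i, π i ≠ i → ρ i = 1 := fun i hi => by
    have := hρc i
    rw [if_neg hi, zero_mul, card_eq_zero, Perm.support_eq_empty_iff] at this
    exact this
  have hρπ : ∀ i, ρ (π i) = ρ i := fun i => by
    by_cases hi : π i = i
    · rw [hi]
    · rw [hρmoved i hi, hρmoved (π i) fun h => hi (π.injective h)]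
  let τ : Perm (Fin b × Fin a) := Equiv.prodShear π ρ
  have hτ_apply : ∀ i x, τ (i, x) = (π i, ρ i x) := fun i x => rfl
  have hτn : ∀ (n : ℕ) i x, (τ ^ n) (i, x) = ((π ^ n) i, (ρ i ^ n) x) := by
    intro n
    induction n with
    | zero => simp
    | succ n ih =>
      intro i x
      rw [pow_succ, pow_succ, pow_succ, Perm.mul_apply, Perm.mul_apply, Perm.mul_apply, hτ_apply, ih, hρπ]
  have hτr : τ ^ r = 1 := Perm.ext fun z => by
    obtain ⟨i, x⟩ := z
    rw [hτn, hπ, hρr]; rfl
  have hτc : τ.support.card = j * r := by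
    rw [card_eq_sum_card_fiberwise (f := Prod.fst) (t := univ) (fun _ _ => mem_coe.2 (mem_univ _))]
    have hfib : ∀ i, (τ.support.filter fun z => z.1 = i).card =
        if π i = i then c i * r else a := by
      intro i
      have he : (τ.support.filter fun z => z.1 = i) =
          (if π i = i then (ρ i).support else univ).map ⟨fun x => (i, x), fun x y h => (Prod.mk.inj h).2⟩ := by
        ext ⟨i', x⟩
        simp only [mem_filter, Perm.mem_support, mem_map]
        constructor
        · rintro ⟨h, rfl⟩
          refine ⟨x, ?_, rfl⟩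
          split_ifs with hi
          · rw [Perm.mem_support]
            intro hx
            exact h (by rw [hτ_apply, hi, hx])
          · exact mem_univ _
        · rintro ⟨y, hy, hxy⟩
          cases hxy
          refine ⟨fun h => ?_, rfl⟩
          rw [hτ_apply, Prod.mk.injEq] at h
          rw [if_pos h.1, Perm.mem_support] at hy
          exact hy h.2
      rw [he, card_map]
      split_ifs with hi
      · rw [hρc, if_pos hi]
      · simp
    simp only [hfib]
    rw [← sum_add_sum_compl π.support, sum_congr rfl (fun i hi => if_neg (Perm.mem_support.1 hi)),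
      sum_congr rfl (fun i hi => if_pos (Perm.notMem_support.1 (mem_compl.1 hi))), sum_const, hπc,
      ← sum_mul, hsum, smul_eq_mul]
    obtain ⟨d, hd⟩ := Nat.exists_eq_add_of_le hlo
    rw [hd, Nat.add_sub_cancel_left]
    ring
  let e : α ≃ Fin b × Fin a :=
    Fintype.equivOfCardEq (by rw [hcard, Fintype.card_prod, Fintype.card_fin, Fintype.card_fin, mul_comm])
  let τ' : Perm α := e.permCongr.symm τ
  have he : ∀ y, e (τ' y) = τ (e y) := fun y => by simp [τ', Equiv.permCongr]
  have hτ'r : τ' ^ r = 1 := by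
    have hit : ∀ (n : ℕ) y, e ((τ' ^ n) y) = (τ ^ n) (e y) := by
      intro n
      induction n with
      | zero => simp
      | succ n ih => intro y; rw [pow_succ', pow_succ', Perm.mul_apply, Perm.mul_apply, he, ih]
    refine Perm.ext fun y => e.injective ?_
    rw [hit, hτr]; rfl
  have hτ'c : τ'.support.card = j * r := by
    rw [← hτc]
    refine card_bij (fun y _ => e y) (fun y hy => ?_) (fun _ _ _ _ h => e.injective h)
      fun z hz => ⟨e.symm z, ?_, e.apply_symm_apply z⟩
    · rw [Perm.mem_support] at hy ⊢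
      rw [← he]; exact fun h => hy (e.injective h)
    · rw [Perm.mem_support] at hz ⊢
      intro h
      apply hz
      have := congrArg e h
      rwa [he, e.apply_symm_apply] at this
  obtain ⟨g, hg⟩ := isConj_iff.1 (Perm.isConj_iff_cycleType_eq.2
    ((cycleType_eq_replicate hr hτ'r hτ'c).trans (cycleType_eq_replicate hr hσ hj).symm))
  refine ⟨fun y => (e (g⁻¹ y)).1, fun i => ?_, π, fun y => ?_⟩
  · refine (Nat.card_congr ((Equiv.subtypeEquiv ((g⁻¹ : Perm α).trans e) (q := fun z => z.1 = i)
      fun y => Iff.rfl).trans ⟨fun z => z.1.2, fun x => ⟨(i, x), rfl⟩, fun z => ?_, fun x => rfl⟩)).trans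
      (Nat.card_fin a)
    obtain ⟨⟨i', x⟩, h⟩ := z
    subst h; rfl
  · change (e (g⁻¹ (σ y))).1 = π (e (g⁻¹ y)).1
    rw [← hg]
    simp only [Perm.mul_apply]
    rw [show g⁻¹ (g (τ' (g⁻¹ y))) = τ' (g⁻¹ y) from g.symm_apply_apply _, he]
    rfl

end CfsgLib.PrimeOrderPerm
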